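import Mathlib
import Cfsg.Agent.Lib.Helper85.SqfDefs
import Cfsg.Agent.Lib.Helper36.SqfIdxH

/-!
# SQF-[DB] (hedge by helper48): `G = P⟨t⟩`, `P` a normal `p`-subgroup, `t` a `p'`-element not
centralising `P`, all class sizes squarefree  ⟹  `|G'|` divides `p`.

`card_commutator_dvd_of_split_of` takes the [PIDX] inequality for `P` as a hypothesis;
`card_commutator_dvd_of_split` is the exact sheet statement (with [PIDX] proved here).
-/

set_option autoImplicit false

namespace Cfsg.Agent.Lib.Helper48.Sqf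

open Cfsg Cfsg.Agent.Lib.Helper85.Sqf

section
variable {G : Type*} [Group G]

/-- an element commuting with `u * t` commutes with `u` and with `t`, if `u`, `t` commute and are
killed by coprime exponents -/
theorem comm_of_comm_mul {u t z : G} (hut : u * t = t * u) {a m : ℕ} (hu : u ^ a = 1)
    (ht : t ^ m = 1) (ham : a.Coprime m) (hz : z * (u * t) = (u * t) * z) :
    z * u = u * z ∧ z * t = t * z := by
  have hc : Commute u t := hut
  have hzc : Commute z (u * t) := hz
  constructor
  · -- (u t)^m = u^m, and u is a power of u^m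
    have h1 : (u * t) ^ m = u ^ m := by rw [hc.mul_pow, ht, mul_one]
    have hou : orderOf u ∣ a := orderOf_dvd_of_pow_eq_one hu
    have hcop : m.Coprime (orderOf u) := (Nat.Coprime.coprime_dvd_left hou ham).symm
    obtain ⟨k, hk⟩ := exists_pow_eq_self_of_coprime hcop
    have h2 : Commute z ((u ^ m) ^ k) := by
      rw [← h1]; exact (hzc.pow_right m).pow_right k
    rw [hk] at h2
    exact h2
  · have h1 : (u * t) ^ a = t ^ a := by rw [hc.mul_pow, hu, one_mul]
    have hot : orderOf t ∣ m := orderOf_dvd_of_pow_eq_one ht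
    have hcop : a.Coprime (orderOf t) := Nat.Coprime.coprime_dvd_right hot ham
    obtain ⟨k, hk⟩ := exists_pow_eq_self_of_coprime hcop
    have h2 : Commute z ((t ^ a) ^ k) := by
      rw [← h1]; exact (hzc.pow_right a).pow_right k
    rw [hk] at h2
    exact h2

/-- [DB] with the [PIDX] inequality for `P` as a hypothesis -/
theorem card_commutator_dvd_of_split_of [Finite G] {p : ℕ} [Fact p.Prime]
    (P : Subgroup G) [P.Normal] (hP : IsPGroup p P)
    (hpidx : ∀ x : G, Nat.card P ∣ p * Nat.card ↥(P ⊓ Subgroup.centralizer ({x} : Set G)))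
    (t : G) (m : ℕ) (hm : m.Coprime p)
    (htm : t ^ m = 1) (htop : P ⊔ Subgroup.zpowers t = ⊤)
    (hnc : ¬ ∀ v ∈ P, t * v = v * t) : Nat.card (commutator G) ∣ p := by
  classical
  have hp : p.Prime := Fact.out
  set M : Subgroup G := P ⊓ Subgroup.centralizer ({t} : Set G) with hM
  have hMP : M ≤ P := inf_le_left
  have hmemM : ∀ v, v ∈ M ↔ v ∈ P ∧ v * t = t * v := by
    intro v
    rw [hM, Subgroup.mem_inf, Subgroup.mem_centralizer_iff]
    constructor
    · rintro ⟨h1, h2⟩; exact ⟨h1, (h2 t rfl).symm⟩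
    · rintro ⟨h1, h2⟩; refine ⟨h1, ?_⟩; intro y hy; rw [Set.mem_singleton_iff.1 hy]; exact h2.symm
  -- p-elements killed by m are trivial
  have hpow : ∀ v ∈ P, ∃ k : ℕ, v ^ p ^ k = 1 := by
    intro v hv
    obtain ⟨k, hk⟩ := hP ⟨v, hv⟩
    exact ⟨k, by simpa using congrArg Subtype.val hk⟩
  have hpm : ∀ v ∈ P, v ^ m = 1 → v = 1 := by
    intro v hv hvm
    obtain ⟨k, hk⟩ := hpow v hv
    have h1 : orderOf v ∣ p ^ k := orderOf_dvd_of_pow_eq_one hk
    have h2 : orderOf v ∣ m := orderOf_dvd_of_pow_eq_one hvm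
    have h3 : (p ^ k).Coprime m := Nat.Coprime.pow_left k hm.symm
    exact orderOf_eq_one_iff.mp (Nat.eq_one_of_dvd_coprimes h3 h1 h2)
  -- Step A: |P| = p |M|
  have hMne : M ≠ P := by
    intro h
    apply hnc
    intro v hv
    have : v ∈ M := h ▸ hv
    exact ((hmemM v).1 this).2.symm
  have hcardM : Nat.card P = p * Nat.card M := by
    obtain ⟨k, hk⟩ := Subgroup.card_dvd_of_le hMP
    have h2 := hpidx t
    have hMpos : 0 < Nat.card M := Nat.card_pos
    have hk_dvd : k ∣ p := by
      rw [hk, mul_comm p] at h2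
      exact Nat.dvd_of_mul_dvd_mul_left hMpos h2
    rcases (Nat.dvd_prime hp).1 hk_dvd with rfl | rfl
    · exfalso
      apply hMne
      exact Subgroup.eq_of_le_of_card_ge hMP (by rw [hk, mul_one])
    · rw [hk, mul_comm]
  -- Step B: M is abelian
  have hMab : ∀ u ∈ M, ∀ w ∈ M, w * u = u * w := by
    intro u hu w hw
    obtain ⟨huP, hut⟩ := (hmemM u).1 hu
    obtain ⟨a, ha⟩ := hpow u huP
    have hX : P ⊓ Subgroup.centralizer ({u * t} : Set G) ≤
        M ⊓ Subgroup.centralizer ({u} : Set G) := by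
      intro z hz
      obtain ⟨hzP, hzc⟩ := Subgroup.mem_inf.1 hz
      have hzc' : z * (u * t) = (u * t) * z :=
        (Subgroup.mem_centralizer_iff.1 hzc (u * t) rfl).symm
      obtain ⟨h1, h2⟩ := comm_of_comm_mul hut ha htm (Nat.Coprime.pow_left a hm.symm) hzc'
      refine Subgroup.mem_inf.2 ⟨(hmemM z).2 ⟨hzP, h2⟩, Subgroup.mem_centralizer_iff.2 ?_⟩
      intro y hy
      rw [Set.mem_singleton_iff.1 hy]
      exact h1.symm
    have h2 := hpidx (u * t)
    rw [hcardM] at h2
    have h3 : Nat.card M ∣ Nat.card ↥(P ⊓ Subgroup.centralizer ({u * t} : Set G)) :=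
      Nat.dvd_of_mul_dvd_mul_left hp.pos h2
    have h4 : Nat.card M ≤ Nat.card ↥(M ⊓ Subgroup.centralizer ({u} : Set G)) :=
      (Nat.le_of_dvd Nat.card_pos h3).trans (Subgroup.card_le_of_le hX)
    have h5 : M ⊓ Subgroup.centralizer ({u} : Set G) = M :=
      Subgroup.eq_of_le_of_card_ge inf_le_left h4
    have h6 : w ∈ M ⊓ Subgroup.centralizer ({u} : Set G) := by rw [h5]; exact hw
    exact (Subgroup.mem_centralizer_iff.1 (Subgroup.mem_inf.1 h6).2 u rfl).symm
  -- Step C: M is normal in P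
  have hrel : M.relIndex P = p := by
    have h1 : Nat.card (M.subgroupOf P) * (M.subgroupOf P).index = Nat.card P :=
      Subgroup.card_mul_index _
    have h2 : Nat.card (M.subgroupOf P) = Nat.card M :=
      Nat.card_congr (Subgroup.subgroupOfEquivOfLe hMP).toEquiv
    rw [h2, hcardM, mul_comm] at h1
    have hMpos : 0 < Nat.card M := Nat.card_pos
    exact Nat.eq_of_mul_eq_mul_right hMpos h1
  have hMnorm : ∀ y ∈ P, ∀ u ∈ M, y * u * y⁻¹ ∈ M := by
    have hidx : (M.subgroupOf P).index = (Nat.card P).minFac := by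
      obtain ⟨n, hn⟩ := (IsPGroup.iff_card).1 hP
      have hn0 : n ≠ 0 := by
        rintro rfl
        rw [pow_zero] at hn
        rw [hn] at hcardM
        have := hp.two_le
        have h0 : 0 < Nat.card M := Nat.card_pos
        nlinarith
      rw [hn, hp.pow_minFac hn0]
      exact hrel
    have hN : (M.subgroupOf P).Normal := Subgroup.normal_of_index_eq_minFac_card hidx
    intro y hy u hu
    have := hN.conj_mem ⟨u, hMP hu⟩ (Subgroup.mem_subgroupOf.2 hu) ⟨y, hy⟩
    exact Subgroup.mem_subgroupOf.1 this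
  -- the commutator map c y = y t y⁻¹ t⁻¹
  have hcP : ∀ y ∈ P, y * t * y⁻¹ * t⁻¹ ∈ P := by
    intro y hy
    have h1 : t * y⁻¹ * t⁻¹ ∈ P := ‹P.Normal›.conj_mem _ (P.inv_mem hy) t
    have : y * t * y⁻¹ * t⁻¹ = y * (t * y⁻¹ * t⁻¹) := by group
    rw [this]
    exact P.mul_mem hy h1
  -- (2) M centralises every c y
  have hcM : ∀ y ∈ P, ∀ u ∈ M, u * (y * t * y⁻¹ * t⁻¹) = (y * t * y⁻¹ * t⁻¹) * u := by
    intro y hy u hu
    have h1 : Commute u t := ((hmemM u).1 hu).2
    have hu' : y⁻¹ * u * y⁻¹⁻¹ ∈ M := hMnorm y⁻¹ (P.inv_mem hy) u hu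
    have h2 : Commute (y⁻¹ * u * y⁻¹⁻¹) t := ((hmemM _).1 hu').2
    have h3 : Commute (y * (y⁻¹ * u * y⁻¹⁻¹) * y⁻¹) (y * t * y⁻¹) := (Commute.conj_iff y).2 h2
    have h4 : y * (y⁻¹ * u * y⁻¹⁻¹) * y⁻¹ = u := by group
    rw [h4] at h3
    exact (h3.mul_right h1.inv_right)
  -- (3) c y ∉ M for y ∈ P \ M
  have hcnM : ∀ y ∈ P, y ∉ M → y * t * y⁻¹ * t⁻¹ ∉ M := by
    intro y hy hyM hc
    set c := y * t * y⁻¹ * t⁻¹ with hcdef
    have hct : Commute c t := ((hmemM c).1 hc).2
    have h0 : y * t = t * (c * y) := by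
      have : y * t = c * t * y := by rw [hcdef]; group
      rw [this, hct.eq, mul_assoc]
    have hind : ∀ j : ℕ, y * t ^ j = t ^ j * (c ^ j * y) := by
      intro j
      induction j with
      | zero => simp
      | succ j ih =>
        have hcj : Commute (c ^ j) t := hct.pow_left j
        calc y * t ^ (j + 1) = (y * t ^ j) * t := by rw [pow_succ, mul_assoc]
          _ = t ^ j * (c ^ j * y) * t := by rw [ih]
          _ = t ^ j * c ^ j * (y * t) := by group
          _ = t ^ j * c ^ j * (t * (c * y)) := by rw [h0]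
          _ = t ^ j * (c ^ j * t) * (c * y) := by group
          _ = t ^ j * (t * c ^ j) * (c * y) := by rw [hcj.eq]
          _ = t ^ (j + 1) * (c ^ (j + 1) * y) := by rw [pow_succ, pow_succ]; group
    have h1 := hind m
    rw [htm, mul_one, one_mul] at h1
    have h2 : c ^ m = 1 := by
      have : c ^ m * y = 1 * y := by rw [one_mul]; exact h1.symm
      exact mul_right_cancel this
    have h3 : c = 1 := hpm c (hMP hc) h2
    apply hyM
    refine (hmemM y).2 ⟨hy, ?_⟩
    rw [h0, h3, one_mul]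
  -- (4) P is abelian
  obtain ⟨y₀, hy₀P, hy₀M⟩ : ∃ y₀ ∈ P, y₀ ∉ M := by
    by_contra hcon
    apply hMne
    apply le_antisymm hMP
    intro y hy
    by_contra hyM
    exact hcon ⟨y, hy, hyM⟩
  set c₀ := y₀ * t * y₀⁻¹ * t⁻¹ with hc₀
  have hc₀P : c₀ ∈ P := hcP y₀ hy₀P
  have hc₀M : c₀ ∉ M := hcnM y₀ hy₀P hy₀M
  have hK : M ⊔ Subgroup.zpowers c₀ = P := by
    have hKP : M ⊔ Subgroup.zpowers c₀ ≤ P := sup_le hMP (Subgroup.zpowers_le.2 hc₀P)
    obtain ⟨k, hk⟩ := Subgroup.card_dvd_of_le (le_sup_left : M ≤ M ⊔ Subgroup.zpowers c₀)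
    have h2 : Nat.card ↥(M ⊔ Subgroup.zpowers c₀) ∣ Nat.card P := Subgroup.card_dvd_of_le hKP
    have hMpos : 0 < Nat.card M := Nat.card_pos
    have hk_dvd : k ∣ p := by
      rw [hk, hcardM, mul_comm p] at h2
      exact Nat.dvd_of_mul_dvd_mul_left hMpos h2
    rcases (Nat.dvd_prime hp).1 hk_dvd with rfl | rfl
    · exfalso
      apply hc₀M
      have : M = M ⊔ Subgroup.zpowers c₀ :=
        Subgroup.eq_of_le_of_card_ge le_sup_left (by rw [hk, mul_one])
      rw [this]
      exact (le_sup_right : Subgroup.zpowers c₀ ≤ _) (Subgroup.mem_zpowers c₀)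
    · exact Subgroup.eq_of_le_of_card_ge hKP (by rw [hk, hcardM, mul_comm])
  have hle_of : ∀ K : Subgroup G, M ≤ K → c₀ ∈ K → P ≤ K := by
    intro K h1 h2
    rw [← hK]
    exact sup_le h1 (Subgroup.zpowers_le.2 h2)
  -- M is central in P
  have hMcent : ∀ u ∈ M, ∀ v ∈ P, v * u = u * v := by
    intro u hu
    have : P ≤ Subgroup.centralizer ({u} : Set G) := by
      apply hle_of
      · intro w hw
        rw [Subgroup.mem_centralizer_iff]
        intro z hz
        rw [Set.mem_singleton_iff.1 hz]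
        exact (hMab u hu w hw).symm
      · rw [Subgroup.mem_centralizer_iff]
        intro z hz
        rw [Set.mem_singleton_iff.1 hz]
        exact hcM y₀ hy₀P u hu
    intro v hv
    exact (Subgroup.mem_centralizer_iff.1 (this hv) u rfl).symm
  have hc₀cent : ∀ v ∈ P, v * c₀ = c₀ * v := by
    have : P ≤ Subgroup.centralizer ({c₀} : Set G) := by
      apply hle_of
      · intro w hw
        rw [Subgroup.mem_centralizer_iff]
        intro z hz
        rw [Set.mem_singleton_iff.1 hz]
        exact (hcM y₀ hy₀P w hw).symm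
      · rw [Subgroup.mem_centralizer_iff]
        intro z hz
        rw [Set.mem_singleton_iff.1 hz]
    intro v hv
    exact (Subgroup.mem_centralizer_iff.1 (this hv) c₀ rfl).symm
  have hPab : ∀ v ∈ P, ∀ w ∈ P, v * w = w * v := by
    intro v hv
    have : P ≤ Subgroup.centralizer ({v} : Set G) := by
      apply hle_of
      · intro w hw
        rw [Subgroup.mem_centralizer_iff]
        intro z hz
        rw [Set.mem_singleton_iff.1 hz]
        exact hMcent w hw v hv
      · rw [Subgroup.mem_centralizer_iff]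
        intro z hz
        rw [Set.mem_singleton_iff.1 hz]
        exact hc₀cent v hv
    intro w hw
    exact Subgroup.mem_centralizer_iff.1 (this hw) v rfl
  -- (5) the homomorphism y ↦ y t y⁻¹ t⁻¹ on P
  have hcmul : ∀ y ∈ P, ∀ z ∈ P,
      (y * z) * t * (y * z)⁻¹ * t⁻¹ = (y * t * y⁻¹ * t⁻¹) * (z * t * z⁻¹ * t⁻¹) := by
    intro y hy z hz
    have h1 : (y * z) * t * (y * z)⁻¹ * t⁻¹ =
        y * (z * t * z⁻¹ * t⁻¹) * y⁻¹ * (y * t * y⁻¹ * t⁻¹) := by group
    have h2 : y * (z * t * z⁻¹ * t⁻¹) = (z * t * z⁻¹ * t⁻¹) * y := hPab y hy _ (hcP z hz)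
    rw [h1, h2, mul_assoc _ y y⁻¹, mul_inv_cancel, mul_one]
    exact hPab _ (hcP z hz) _ (hcP y hy)
  let φ : ↥P →* G := MonoidHom.mk' (fun y => (y : G) * t * (y : G)⁻¹ * t⁻¹)
    (fun y z => by simpa using hcmul y y.2 z z.2)
  have hφ : ∀ y : ↥P, φ y = (y : G) * t * (y : G)⁻¹ * t⁻¹ := fun _ => rfl
  have hker : φ.ker = M.subgroupOf P := by
    ext y
    rw [MonoidHom.mem_ker, hφ, Subgroup.mem_subgroupOf, hmemM]
    constructor
    · intro h
      refine ⟨y.2, ?_⟩
      have : (y : G) * t = ((y : G) * t * (y : G)⁻¹ * t⁻¹) * (t * (y : G)) := by group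
      rw [this, h, one_mul]
    · rintro ⟨-, h⟩
      rw [h]
      group
  have hcardR : Nat.card φ.range = p := by
    rw [← Subgroup.index_ker, hker]
    exact hrel
  have hRP : φ.range ≤ P := by
    rintro _ ⟨y, rfl⟩
    exact hcP y y.2
  -- conjugation by elements commuting with t preserves the range
  have hconj : ∀ s : G, s * t = t * s → ∀ r ∈ φ.range, s * r * s⁻¹ ∈ φ.range := by
    rintro s hs _ ⟨y, rfl⟩
    have hy' : s * (y : G) * s⁻¹ ∈ P := ‹P.Normal›.conj_mem _ y.2 s
    refine ⟨⟨s * (y : G) * s⁻¹, hy'⟩, ?_⟩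
    rw [hφ, hφ]
    have hs' : s * t⁻¹ = t⁻¹ * s := (Commute.inv_right (show Commute s t from hs)).eq
    have hs'' : t * s⁻¹ = s⁻¹ * t := (Commute.inv_right (show Commute t s from hs.symm)).eq
    show s * (y : G) * s⁻¹ * t * (s * (y : G) * s⁻¹)⁻¹ * t⁻¹ = s * ((y : G) * t * (y : G)⁻¹ * t⁻¹) * s⁻¹
    calc s * (y : G) * s⁻¹ * t * (s * (y : G) * s⁻¹)⁻¹ * t⁻¹
        = s * (y : G) * (s⁻¹ * t) * s * (y : G)⁻¹ * (s⁻¹ * t⁻¹) := by group
      _ = s * (y : G) * (t * s⁻¹) * s * (y : G)⁻¹ * (s⁻¹ * t⁻¹) := by rw [hs'']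
      _ = s * (y : G) * t * (y : G)⁻¹ * (s⁻¹ * t⁻¹) := by group
      _ = s * (y : G) * t * (y : G)⁻¹ * (t⁻¹ * s⁻¹) := by
          have : s⁻¹ * t⁻¹ = t⁻¹ * s⁻¹ := by
            have := congrArg (fun x => x⁻¹) hs.symm
            simpa [mul_inv_rev] using this
          rw [this]
      _ = s * ((y : G) * t * (y : G)⁻¹ * t⁻¹) * s⁻¹ := by group
  -- the range is normal in G
  have hgen : ∀ K : Subgroup G, P ≤ K → t ∈ K → K = ⊤ := by
    intro K h1 h2
    rw [eq_top_iff, ← htop]
    exact sup_le h1 (Subgroup.zpowers_le.2 h2)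
  have hRnorm : φ.range.Normal := by
    rw [← Subgroup.normalizer_eq_top_iff]
    apply hgen
    · intro v hv
      rw [Subgroup.mem_normalizer_iff]
      intro r
      constructor
      · intro hr
        have : v * r * v⁻¹ = r := by
          rw [hPab v hv r (hRP hr), mul_assoc, mul_inv_cancel, mul_one]
        rw [this]; exact hr
      · intro hr
        have hrP : r ∈ P := by
          have h1 : v⁻¹ * (v * r * v⁻¹) * v ∈ P :=
            P.mul_mem (P.mul_mem (P.inv_mem hv) (hRP hr)) hv
          have h2 : v⁻¹ * (v * r * v⁻¹) * v = r := by group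
          rwa [h2] at h1
        have : v * r * v⁻¹ = r := by
          rw [hPab v hv r hrP, mul_assoc, mul_inv_cancel, mul_one]
        rw [this] at hr; exact hr
    · rw [Subgroup.mem_normalizer_iff]
      intro r
      constructor
      · intro hr
        exact hconj t rfl r hr
      · intro hr
        have h1 := hconj t⁻¹ (by group) _ hr
        have h2 : t⁻¹ * (t * r * t⁻¹) * t⁻¹⁻¹ = r := by group
        rwa [h2] at h1
  -- G / range is abelian
  have hbase : ∀ g : G, (g ∈ P ∨ g = t) → ∀ h : G, (h ∈ P ∨ h = t) →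
      (QuotientGroup.mk' φ.range g) * (QuotientGroup.mk' φ.range h) =
        (QuotientGroup.mk' φ.range h) * (QuotientGroup.mk' φ.range g) := by
    have hvt : ∀ v ∈ P, (QuotientGroup.mk' φ.range v) * (QuotientGroup.mk' φ.range t) =
        (QuotientGroup.mk' φ.range t) * (QuotientGroup.mk' φ.range v) := by
      intro v hv
      rw [← map_mul, ← map_mul]
      have h1 : v * t = (v * t * v⁻¹ * t⁻¹) * (t * v) := by group
      rw [h1, map_mul]
      have h2 : (QuotientGroup.mk' φ.range) (v * t * v⁻¹ * t⁻¹) = 1 := by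
        rw [QuotientGroup.mk'_apply, QuotientGroup.eq_one_iff]
        exact ⟨⟨v, hv⟩, rfl⟩
      rw [h2, one_mul]
    rintro g (hg | rfl) h (hh | rfl)
    · rw [← map_mul, ← map_mul, hPab g hg h hh]
    · exact hvt g hg
    · exact (hvt h hh).symm
    · rfl
  have hcomm : ∀ a b : G ⧸ φ.range, a * b = b * a := by
    have hcen : ∀ g : G, (g ∈ P ∨ g = t) → ∀ h : G,
        (QuotientGroup.mk' φ.range g) * (QuotientGroup.mk' φ.range h) =
          (QuotientGroup.mk' φ.range h) * (QuotientGroup.mk' φ.range g) := by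
      intro g hg
      have : (Subgroup.centralizer ({QuotientGroup.mk' φ.range g} : Set (G ⧸ φ.range))).comap
          (QuotientGroup.mk' φ.range) = ⊤ := by
        apply hgen
        · intro v hv
          rw [Subgroup.mem_comap, Subgroup.mem_centralizer_iff]
          intro z hz
          rw [Set.mem_singleton_iff.1 hz]
          exact hbase g hg v (Or.inl hv)
        · rw [Subgroup.mem_comap, Subgroup.mem_centralizer_iff]
          intro z hz
          rw [Set.mem_singleton_iff.1 hz]
          exact hbase g hg t (Or.inr rfl)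
      intro h
      have hh : h ∈ (Subgroup.centralizer
          ({QuotientGroup.mk' φ.range g} : Set (G ⧸ φ.range))).comap (QuotientGroup.mk' φ.range) := by
        rw [this]; exact Subgroup.mem_top h
      rw [Subgroup.mem_comap, Subgroup.mem_centralizer_iff] at hh
      exact hh _ rfl
    have hcen2 : ∀ g h : G,
        (QuotientGroup.mk' φ.range g) * (QuotientGroup.mk' φ.range h) =
          (QuotientGroup.mk' φ.range h) * (QuotientGroup.mk' φ.range g) := by
      intro g h
      have : (Subgroup.centralizer ({QuotientGroup.mk' φ.range h} : Set (G ⧸ φ.range))).comap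
          (QuotientGroup.mk' φ.range) = ⊤ := by
        apply hgen
        · intro v hv
          rw [Subgroup.mem_comap, Subgroup.mem_centralizer_iff]
          intro z hz
          rw [Set.mem_singleton_iff.1 hz]
          exact (hcen v (Or.inl hv) h).symm
        · rw [Subgroup.mem_comap, Subgroup.mem_centralizer_iff]
          intro z hz
          rw [Set.mem_singleton_iff.1 hz]
          exact (hcen t (Or.inr rfl) h).symm
      have hg : g ∈ (Subgroup.centralizer
          ({QuotientGroup.mk' φ.range h} : Set (G ⧸ φ.range))).comap (QuotientGroup.mk' φ.range) := by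
        rw [this]; exact Subgroup.mem_top g
      rw [Subgroup.mem_comap, Subgroup.mem_centralizer_iff] at hg
      exact (hg _ rfl).symm
    intro a b
    obtain ⟨g, rfl⟩ := QuotientGroup.mk'_surjective φ.range a
    obtain ⟨h, rfl⟩ := QuotientGroup.mk'_surjective φ.range b
    exact hcen2 g h
  have hle : commutator G ≤ φ.range := by
    rw [commutator_def, Subgroup.commutator_le]
    intro g _ h _
    rw [← QuotientGroup.eq_one_iff, commutatorElement_def]
    have := hcomm (g : G ⧸ φ.range) (h : G ⧸ φ.range)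
    rw [QuotientGroup.mk_mul, QuotientGroup.mk_mul, QuotientGroup.mk_mul, QuotientGroup.mk_inv,
      QuotientGroup.mk_inv, this, mul_assoc, mul_assoc, mul_inv_cancel_left, mul_inv_cancel]
  have := Subgroup.card_dvd_of_le hle
  rwa [hcardR] at this

/-- [DB] exact sheet statement -/
theorem card_commutator_dvd_of_split [Finite G] (h : SqF G) {p : ℕ} [Fact p.Prime]
    (P : Subgroup G) [P.Normal] (hP : IsPGroup p P) (t : G) (m : ℕ) (hm : m.Coprime p)
    (htm : t ^ m = 1) (htop : P ⊔ Subgroup.zpowers t = ⊤)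
    (hnc : ¬ ∀ v ∈ P, t * v = v * t) : Nat.card (commutator G) ∣ p :=
  card_commutator_dvd_of_split_of P hP
    (fun x => Cfsg.Agent.Lib.Helper36.Sqf.card_dvd_mul_card_inf h P hP x) t m hm htm htop hnc

end

end Cfsg.Agent.Lib.Helper48.Sqf
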